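import Groth.Agent.L22.FibreSemicont
import Mathlib.AlgebraicGeometry.Noetherian

/-!
`dim C` in terms of the closures of the loci where the fibre dimension of `π : C ⟶ X` is large.
-/

universe u

open CategoryTheory AlgebraicGeometry TopologicalSpace Topology Set

namespace Groth.L13.CharDim

/-- The locus where the fibre has dimension at least `j`. -/
def fibreGE {C X : Scheme.{u}} (π : C ⟶ X) (j : ℕ) : Set X :=
  {x : X | (j : WithBot ℕ∞) ≤ topologicalKrullDim (π.fiber x)}

variable (k : Type u) [Field k] {C X : Scheme.{u}} (q : X ⟶ Spec (CommRingCat.of k)) (π : C ⟶ X)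
  [LocallyOfFiniteType q] [LocallyOfFiniteType π] [CompactSpace C]

include k q in
theorem dim_closure_fibreGE_add_le (j : ℕ) :
    topologicalKrullDim (closure (fibreGE π j)) + (j : WithBot ℕ∞) ≤ topologicalKrullDim C := by
  letI : X.Over (Spec (CommRingCat.of k)) := ⟨q⟩
  letI : C.Over (Spec (CommRingCat.of k)) := ⟨π ≫ q⟩
  haveI : LocallyOfFiniteType (X ↘ Spec (CommRingCat.of k)) := ‹LocallyOfFiniteType q›
  haveI : LocallyOfFiniteType (C ↘ Spec (CommRingCat.of k)) :=
    (inferInstance : LocallyOfFiniteType (π ≫ q))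
  haveI : IsLocallyNoetherian C :=
    LocallyOfFiniteType.isLocallyNoetherian (C ↘ Spec (CommRingCat.of k))
  haveI : IsNoetherian C := {}
  have hf : π ≫ (X ↘ Spec (CommRingCat.of k)) = (C ↘ Spec (CommRingCat.of k)) := rfl
  rw [add_comm]
  refine L22.FibreDim.natCast_add_le_of_forall fun r hr => ?_
  haveI : QuasiSober (closure (fibreGE π j)) :=
    isClosed_closure.isClosedEmbedding_subtypeVal.quasiSober
  obtain ⟨y, hy⟩ := L22.FibreDim.exists_le_dim_closure hr
  rw [L22.FibreDim.subtype_dim_closure] at hy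
  replace hy := hy.trans (L22.SchemeDim.topologicalKrullDim_mono inter_subset_left)
  let Cj : Set C := {c | (j : WithBot ℕ∞) ≤ FlatMor.fibreDimAt π c}
  have hB : fibreGE π j ⊆ π '' Cj := by
    intro x hx
    obtain ⟨w, hw⟩ := L22.FibreDim.exists_le_dim_closure hx
    have hfw : π (π.fiberι x w) = x := (π.range_fiberι x).subset ⟨w, rfl⟩
    refine ⟨π.fiberι x w, ?_, hfw⟩
    show (j : WithBot ℕ∞) ≤ _
    rw [L22.FibreSemicont.fibreDimAt_eq_iSup π, hfw]
    refine le_iSup_of_le ⟨π.fiberι x w, specializes_refl _, hfw⟩ (hw.trans (le_of_eq ?_))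
    refine (L22.SchemeDim.topologicalKrullDim_eq_of_isEmbedding
      (f := fun v : (closure ({w} : Set (π.fiber x))) => π.fiberι x v.1)
      ((π.fiberι x).isEmbedding.comp IsEmbedding.subtypeVal) ?_).symm
    have h := (π.fiberι x).isEmbedding.isInducing.closure_eq_preimage_closure_image {w}
    rw [Set.image_singleton] at h
    rw [Set.range_comp', Subtype.range_coe, h, Set.image_preimage_eq_inter_range, π.range_fiberι]
  obtain ⟨S, hSfin, hScl, hSirr, hSU⟩ := NoetherianSpace.exists_finite_set_isClosed_irreducible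
    (L22.FibreSemicont.isClosed_le_fibreDimAt k π hf j)
  have hcl : closure (fibreGE π j) ⊆ ⋃ t ∈ S, closure (π '' t) := by
    refine closure_minimal (hB.trans ?_) (hSfin.isClosed_biUnion fun _ _ => isClosed_closure)
    change π '' {c | (j : WithBot ℕ∞) ≤ FlatMor.fibreDimAt π c} ⊆ _
    rw [hSU]
    rintro _ ⟨c, ⟨t, ht, hct⟩, rfl⟩
    exact mem_biUnion ht (subset_closure ⟨c, hct, rfl⟩)
  obtain ⟨t, ht, hyt⟩ := mem_iUnion₂.1 (hcl y.2)
  obtain ⟨η, hη⟩ := QuasiSober.sober (hSirr t ht) (hScl t ht)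
  have hηj : (j : WithBot ℕ∞) ≤ FlatMor.fibreDimAt π η :=
    (hSU.ge : ⋃₀ S ⊆ _) (mem_sUnion_of_mem hη.mem ht)
  obtain ⟨z, cz, a, -, -, hcz, ha, hle⟩ := (L22.FibreSemicont.le_fibreDimAt_iff k π hf η j).1 hηj
  have hyη : closure ({y.1} : Set X) ⊆ closure {π η} := by
    refine closure_minimal (singleton_subset_iff.2 ?_) isClosed_closure
    refine closure_minimal ?_ isClosed_closure hyt
    rw [← hη.def]
    exact (image_closure_subset_closure_image π.continuous).trans (by rw [Set.image_singleton])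
  have hra : r ≤ a := by
    have h := hy.trans ((L22.SchemeDim.topologicalKrullDim_mono hyη).trans_eq ha)
    exact_mod_cast h
  calc ((j + r : ℕ) : WithBot ℕ∞) ≤ (cz : WithBot ℕ∞) := by exact_mod_cast (show j + r ≤ cz by omega)
    _ = topologicalKrullDim (closure ({z} : Set C)) := hcz.symm
    _ ≤ _ := IsInducing.subtypeVal.topologicalKrullDim_le

include k q in
theorem exists_le_dim_closure_fibreGE_add {r : ℕ}
    (hr : (r : WithBot ℕ∞) ≤ topologicalKrullDim C) :
    ∃ j : ℕ, (r : WithBot ℕ∞) ≤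
      topologicalKrullDim (closure (fibreGE π j)) + (j : WithBot ℕ∞) := by
  letI : X.Over (Spec (CommRingCat.of k)) := ⟨q⟩
  letI : C.Over (Spec (CommRingCat.of k)) := ⟨π ≫ q⟩
  haveI : LocallyOfFiniteType (X ↘ Spec (CommRingCat.of k)) := ‹LocallyOfFiniteType q›
  have hf : π ≫ (X ↘ Spec (CommRingCat.of k)) = (C ↘ Spec (CommRingCat.of k)) := rfl
  obtain ⟨c, hc⟩ := L22.FibreDim.exists_le_dim_closure hr
  obtain ⟨a, b, ha, hb, hab⟩ := L22.FibreDim.exists_dim_closure_add k π hf c
  refine ⟨b, ?_⟩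
  have hmem : π c ∈ fibreGE π b := by
    show (b : WithBot ℕ∞) ≤ topologicalKrullDim (π.fiber (π c))
    rw [(π.fiberHomeo (π c)).isHomeomorph.topologicalKrullDim_eq, ← hb]
    exact L22.SchemeDim.topologicalKrullDim_mono inter_subset_right
  rw [hab] at hc
  refine hc.trans ?_
  rw [Nat.cast_add, ← ha]
  exact add_le_add (L22.SchemeDim.topologicalKrullDim_mono
    (closure_mono (singleton_subset_iff.2 hmem))) le_rfl

include k q in
theorem dim_add_le_iff (n c : ℕ) :
    topologicalKrullDim C + (c : WithBot ℕ∞) ≤ n ↔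
      ∀ j : ℕ, topologicalKrullDim (closure (fibreGE π j)) + (c : WithBot ℕ∞) + (j : WithBot ℕ∞) ≤ n := by
  constructor
  · intro h j
    rw [add_right_comm]
    exact (add_le_add_left (dim_closure_fibreGE_add_le k q π j) _).trans h
  · intro h
    rw [add_comm]
    refine L22.FibreDim.natCast_add_le_of_forall fun r hr => ?_
    obtain ⟨j, hj⟩ := exists_le_dim_closure_fibreGE_add k q π hr
    refine le_trans ?_ (h j)
    rw [add_right_comm, Nat.cast_add, add_comm (c : WithBot ℕ∞)]
    exact add_le_add hj le_rfl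

end Groth.L13.CharDim
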