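import Groth.Agent.L13.CharDim.Basic
import Groth.Agent.L22.LocalDim
import Mathlib.AlgebraicGeometry.Morphisms.ClosedImmersion
import Mathlib.AlgebraicGeometry.Morphisms.QuasiCompact
import Mathlib.RingTheory.Ideal.KrullsHeightTheorem
import Mathlib.RingTheory.Regular.RegularSequence

/-!
Components of the preimage of a subscheme cut out locally by `c` equations have dimension
at least `n - c`.
-/

universe u

open CategoryTheory AlgebraicGeometry TopologicalSpace Topology Set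

namespace Groth.L13.CharDim

theorem dim_quotient_le_add {k : Type u} [Field k] {A : Type u} [CommRing A] [Algebra k A]
    [Algebra.FiniteType k A] (rs : List A) {p q : Ideal A} [p.IsPrime] [hq : q.IsPrime]
    (hmin : q ∈ (p ⊔ Ideal.ofList rs).minimalPrimes) :
    ringKrullDim (A ⧸ p) ≤ ringKrullDim (A ⧸ q) + (rs.length : WithBot ℕ∞) := by
  classical
  haveI : IsNoetherianRing A := Algebra.FiniteType.isNoetherianRing k A
  have hpq : p ≤ q := le_sup_left.trans hmin.1.2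
  have hsurj : Function.Surjective (Ideal.Quotient.mk p) := Ideal.Quotient.mk_surjective
  haveI : (q.map (Ideal.Quotient.mk p)).IsPrime :=
    Ideal.map_isPrime_of_surjective hsurj (by rw [Ideal.mk_ker]; exact hpq)
  have hmem : q.map (Ideal.Quotient.mk p) ∈
      (Ideal.span ((rs.map (Ideal.Quotient.mk p)).toFinset : Set (A ⧸ p))).minimalPrimes := by
    have hspan : Ideal.span ((rs.map (Ideal.Quotient.mk p)).toFinset : Set (A ⧸ p)) =
        (p ⊔ Ideal.ofList rs).map (Ideal.Quotient.mk p) := by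
      rw [Ideal.map_sup, Ideal.map_quotient_self, bot_sup_eq, Ideal.ofList, Ideal.map_span]
      congr 1
      ext a
      simp [List.mem_map, Set.mem_image]
    rw [hspan]
    refine ⟨⟨inferInstance, Ideal.map_mono hmin.1.2⟩, fun J hJ hJle => ?_⟩
    obtain ⟨hJp, hJI⟩ := hJ
    haveI := hJp
    have h1 : p ⊔ Ideal.ofList rs ≤ J.comap (Ideal.Quotient.mk p) := Ideal.map_le_iff_le_comap.1 hJI
    have h2 : J.comap (Ideal.Quotient.mk p) ≤ q := by
      refine (Ideal.comap_mono hJle).trans ?_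
      rw [Ideal.comap_map_of_surjective _ hsurj]
      exact sup_le le_rfl ((Ideal.mk_ker (I := p)).le.trans hpq)
    exact (Ideal.map_mono (hmin.2 ⟨inferInstance, h1⟩ h2)).trans Ideal.map_comap_le
  obtain ⟨h, e, d, hh, he, hd, hhe⟩ :=
    L22.AffineDim.dim_formula k (A ⧸ p) (q.map (Ideal.Quotient.mk p))
  have hc : h ≤ rs.length := by
    have h1 := Ideal.height_le_card_of_mem_minimalPrimes_span_finset hmem
    rw [hh] at h1
    exact (Nat.cast_le.1 h1).trans ((List.toFinset_card_le _).trans_eq (List.length_map _))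
  rw [hd, ← ringKrullDim_eq_of_ringEquiv (DoubleQuot.quotQuotEquivQuotOfLE hpq), he]
  exact_mod_cast (show d ≤ e + rs.length by omega)

/-- The image of a closed immersion is the zero locus of its kernel. -/
theorem mem_range_iff_ker {W X : Scheme.{u}} (ι : W ⟶ X) {U : X.Opens} (hU : IsAffineOpen U)
    [IsClosedImmersion (ι ∣_ U)] {z : X} (hz : z ∈ U) :
    z ∈ Set.range ι ↔ RingHom.ker (ι.app U).hom ≤ (hU.primeIdealOf ⟨z, hz⟩).asIdeal := by
  constructor
  · rintro ⟨w, rfl⟩ f hf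
    by_contra hnot
    have h1 : w ∈ ι ⁻¹ᵁ X.basicOpen f := (L22.LocalDim.mem_basicOpen_iff hU hz f).2 hnot
    rw [Scheme.preimage_basicOpen, show ι.app U f = 0 from hf, Scheme.basicOpen_zero] at h1
    exact h1
  · intro hker
    by_contra hnot
    have hcl : IsClosed (Set.range (ι ∣_ U)) := (ι ∣_ U).isClosedEmbedding.isClosed_range
    have hmem : (⟨z, hz⟩ : U) ∈ (Set.range (ι ∣_ U))ᶜ := by
      rintro ⟨w, hw⟩
      exact hnot ⟨w.1, (morphismRestrict_base_coe ι U w).symm.trans (congrArg Subtype.val hw)⟩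
    let O : X.Opens := ⟨Subtype.val '' (Set.range (ι ∣_ U))ᶜ,
      U.2.isOpenMap_subtype_val _ hcl.isOpen_compl⟩
    obtain ⟨f, hfO, hfz⟩ := hU.exists_basicOpen_le (V := O) ⟨z, ⟨⟨z, hz⟩, hmem, rfl⟩⟩ hz
    have hbot : W.basicOpen (ι.app U f) = ⊥ := by
      rw [← Scheme.preimage_basicOpen]
      refine eq_bot_iff.2 fun w hw => ?_
      obtain ⟨u, hu, huw⟩ := hfO hw
      have hwU : w ∈ ι ⁻¹ᵁ U := X.basicOpen_le f hw
      exact hu ⟨⟨w, hwU⟩, Subtype.ext ((morphismRestrict_base_coe ι U _).trans huw.symm)⟩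
    haveI : IsAffine U := hU
    have hWU : IsAffineOpen (ι ⁻¹ᵁ U) := isAffine_of_isAffineHom (ι ∣_ U)
    obtain ⟨N, hN⟩ := (Scheme.isNilpotent_iff_basicOpen_eq_bot_of_isCompact hWU.isCompact _).2 hbot
    rw [← map_pow] at hN
    exact (L22.LocalDim.mem_basicOpen_iff hU hz f).1 hfz
      ((hU.primeIdealOf ⟨z, hz⟩).2.mem_of_pow_mem N (hker hN))

variable (k : Type u) [Field k] {C X W : Scheme.{u}}

/-- A component of the preimage of a subscheme cut out by `c` equations inside an irreducible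
closed set. -/
theorem dim_closure_le_component (q : X ⟶ Spec (CommRingCat.of k)) (π : C ⟶ X) (ι : W ⟶ X)
    [LocallyOfFiniteType q] [LocallyOfFiniteType π] (c : ℕ)
    (hι : ∀ w : W, ∃ U : X.affineOpens, ι w ∈ U.1 ∧ IsClosedImmersion (ι ∣_ U.1) ∧
      ∃ rs : List Γ(X, U.1), rs.length = c ∧ RingHom.ker (ι.app U.1).hom = Ideal.ofList rs)
    {ξ η : C} (hξη : ξ ⤳ η) (hη : π η ∈ Set.range ι)
    (hmin : ∀ z : C, ξ ⤳ z → z ⤳ η → π z ∈ Set.range ι → z = η) :
    topologicalKrullDim (closure ({ξ} : Set C)) ≤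
      topologicalKrullDim (closure ({η} : Set C) ∩ (closure {ξ} ∩ π ⁻¹' Set.range ι) : Set C) +
        (c : WithBot ℕ∞) := by
  letI : X.Over (Spec (CommRingCat.of k)) := ⟨q⟩
  letI : C.Over (Spec (CommRingCat.of k)) := ⟨π ≫ q⟩
  haveI : LocallyOfFiniteType (C ↘ Spec (CommRingCat.of k)) :=
    (inferInstance : LocallyOfFiniteType (π ≫ q))
  obtain ⟨w, hw⟩ := hη
  obtain ⟨⟨U, hU⟩, hwU, hci, rs, hlen, hker⟩ := hι w
  obtain ⟨_, ⟨V, hV, rfl⟩, hηV, hVU⟩ := C.isBasis_affineOpens.exists_subset_of_mem_open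
    (show η ∈ π ⁻¹ᵁ U from by show π η ∈ U; rw [← hw]; exact hwU) (π ⁻¹ᵁ U).2
  change C.Opens at V
  replace hV : IsAffineOpen V := hV
  change V ≤ π ⁻¹ᵁ U at hVU
  have hξV : ξ ∈ V := hξη.mem_open V.2 hηV
  letI : Algebra k Γ(C, V) := (L22.SchemeDim.sectHom k C V).toAlgebra
  haveI : Algebra.FiniteType k Γ(C, V) :=
    RingHom.finiteType_algebraMap.1 (L22.SchemeDim.finiteType_sectHom k C hV)
  let φ : Γ(X, U) →+* Γ(C, V) := (π.appLE U V hVU).hom
  -- membership in the preimage in terms of the pulled back equations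
  have hmem : ∀ (z : C) (hz : z ∈ V), π z ∈ Set.range ι ↔
      Ideal.ofList (rs.map φ) ≤ (hV.primeIdealOf ⟨z, hz⟩).asIdeal := by
    intro z hz
    haveI := hci
    have key : ∀ f, φ f ∈ (hV.primeIdealOf ⟨z, hz⟩).asIdeal ↔
        f ∈ (hU.primeIdealOf ⟨π z, hVU hz⟩).asIdeal := by
      intro f
      rw [← not_iff_not, ← L22.LocalDim.mem_basicOpen_iff hV hz,
        ← L22.LocalDim.mem_basicOpen_iff hU (hVU hz)]
      show z ∈ C.basicOpen (π.appLE U V hVU f) ↔ z ∈ π ⁻¹ᵁ X.basicOpen f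
      rw [Scheme.basicOpen_appLE]
      exact ⟨fun h => h.2, fun h => ⟨hz, h⟩⟩
    rw [mem_range_iff_ker ι hU (hVU hz), hker, Ideal.ofList, Ideal.ofList, Ideal.span_le,
      Ideal.span_le]
    constructor
    · intro h a ha
      obtain ⟨f, hf, rfl⟩ := List.mem_map.1 ha
      exact (key f).2 (h hf)
    · intro h f hf
      exact (key f).1 (h (List.mem_map.2 ⟨f, hf, rfl⟩))
  have hq : (hV.primeIdealOf ⟨η, hηV⟩).asIdeal ∈
      ((hV.primeIdealOf ⟨ξ, hξV⟩).asIdeal ⊔ Ideal.ofList (rs.map φ)).minimalPrimes := by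
    refine ⟨⟨(hV.primeIdealOf ⟨η, hηV⟩).2, sup_le (L22.LocalDim.le_of_specializes hV hξV hηV hξη)
      ((hmem η hηV).1 ⟨w, hw⟩)⟩, fun J hJ hJle => ?_⟩
    have hzV : hV.fromSpec ⟨J, hJ.1⟩ ∈ V := L22.LocalDim.fromSpec_mem hV _
    have h1 : ξ ⤳ hV.fromSpec ⟨J, hJ.1⟩ := by
      conv_lhs => rw [← L22.LocalDim.fromSpec_prime hV hξV]
      exact L22.LocalDim.fromSpec_specializes hV (le_sup_left.trans hJ.2)
    have h2 : hV.fromSpec ⟨J, hJ.1⟩ ⤳ η := by
      conv_rhs => rw [← L22.LocalDim.fromSpec_prime hV hηV]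
      exact L22.LocalDim.fromSpec_specializes hV hJle
    have h3 : π (hV.fromSpec ⟨J, hJ.1⟩) ∈ Set.range ι := by
      rw [hmem _ hzV, L22.LocalDim.primeIdealOf_fromSpec hV _ hzV]
      exact le_sup_right.trans hJ.2
    have heq : hV.primeIdealOf ⟨η, hηV⟩ = ⟨J, hJ.1⟩ :=
      hV.fromSpec.isOpenEmbedding.injective
        ((L22.LocalDim.fromSpec_prime hV hηV).trans (hmin _ h1 h2 h3).symm)
    rw [heq]
  haveI := (hV.primeIdealOf ⟨ξ, hξV⟩).2
  haveI := (hV.primeIdealOf ⟨η, hηV⟩).2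
  rw [L22.FibreBound.dim_closure_eq k hV hξV]
  refine (dim_quotient_le_add (k := k) (rs.map φ) hq).trans ?_
  rw [List.length_map, hlen, ← L22.SchemeDim.topologicalKrullDim_closure_inter hV hηV]
  refine add_le_add (L22.SchemeDim.topologicalKrullDim_mono ?_) le_rfl
  rintro z ⟨hzη, hzV⟩
  have hηz : η ⤳ z := specializes_iff_mem_closure.2 hzη
  refine ⟨hzη, (hξη.trans hηz).mem_closure, (hmem z hzV).2 ?_⟩
  exact ((hmem η hηV).1 ⟨w, hw⟩).trans (L22.LocalDim.le_of_specializes hV hηV hzV hηz)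

end Groth.L13.CharDim
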